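import Cfsg.Agent.H780.D4.Stmts
import Cfsg.Agent.H802.FusEss

/-!
# S5261 (D3-TIALP): TI of `Aut_S(Q1)` from Alperin's fusion theorem (helper805)
-/

set_option autoImplicit false

namespace Cfsg.Agent.H805.D4

open Cfsg Cfsg.FusionSystem Cfsg.Agent.H802 Cfsg.Agent.H756.PU

universe u

variable {G0 : Type u} [Group G0]

/-- `α` is an `F`-automorphism of the whole group -/
def IsA (F : FusionSystem (⊤ : Subgroup G0)) (α : MulAut G0) : Prop :=
  α.toMonoidHom.comp (⊤ : Subgroup G0).subtype ∈ F.Hom ⊤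

theorem isA_mul {F : FusionSystem (⊤ : Subgroup G0)} {α β : MulAut G0} (ha : IsA F α) (hb : IsA F β) :
    IsA F (α * β) := by
  obtain ⟨χ, hχ, he⟩ := exists_comp hb ha (fun _ => Subgroup.mem_top _)
  exact mem_of_apply_eq hχ (fun x => (he x).symm)

theorem isA_conj (F : FusionSystem (⊤ : Subgroup G0)) (g : G0) : IsA F (MulAut.conj g) :=
  mem_of_apply_eq (F.conj_mem (P := ⊤) (g := g) le_rfl (Subgroup.mem_top g)) (fun _ => rfl)

theorem isA_inv {F : FusionSystem (⊤ : Subgroup G0)} {α : MulAut G0} (ha : IsA F α) : IsA F α⁻¹ := by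
  obtain ⟨ψ, hψ, -, h1, -⟩ := exists_inv (Q := ⊤) ha (by
    rw [eq_top_iff]
    rintro x -
    exact ⟨⟨α.symm x, Subgroup.mem_top _⟩, α.apply_symm_apply x⟩)
  refine mem_of_apply_eq hψ (fun x => ?_)
  have h2 := h1 ⟨α.symm x, Subgroup.mem_top _⟩ (Subgroup.mem_top _)
  have h3 : (α.toMonoidHom.comp (⊤ : Subgroup G0).subtype) ⟨α.symm x, Subgroup.mem_top _⟩ = (x : G0) :=
    α.apply_symm_apply x
  have h4 : (⟨(α.toMonoidHom.comp (⊤ : Subgroup G0).subtype) ⟨α.symm x, Subgroup.mem_top _⟩, Subgroup.mem_top _⟩ :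
      (⊤ : Subgroup G0)) = x := Subtype.ext h3
  rw [h4] at h2
  exact h2.symm

/-- the subsystem of the maps which extend to the whole group when their source or image is larger than `Q` -/
def extSys (F : FusionSystem (⊤ : Subgroup G0)) (Q : Subgroup G0)
    (hQ : ∀ α : MulAut G0, Q.map α.toMonoidHom = Q) : FusionSystem (⊤ : Subgroup G0) where
  Hom P := {φ | φ ∈ F.Hom P ∧ ((Q < P ∨ Q < φ.range) → ∃ α : MulAut G0, IsA F α ∧ ∀ x : P, φ x = α x)}
  le_of_mem h := F.le_of_mem h.1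
  injective_of_mem h := F.injective_of_mem h.1
  conj_mem hP hg := ⟨F.conj_mem hP hg, fun _ => ⟨MulAut.conj _, isA_conj F _, fun _ => rfl⟩⟩
  comp_mem := by
    rintro P R φ ψ ⟨h1, h2⟩ ⟨h3, h4⟩ h
    refine ⟨F.comp_mem h1 h3 h, ?_⟩
    -- images under `IsA`
    have key : ∀ (P R : Subgroup G0) (φ : P →* G0) (α : MulAut G0), (∀ x : P, φ x = α x) → φ.range = R →
        (Q < P ↔ Q < R) := by
      intro P R φ α hφ hR
      have h5 : R = P.map α.toMonoidHom := by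
        rw [← hR]
        ext y
        constructor
        · rintro ⟨x, rfl⟩
          exact ⟨x, x.2, (hφ x).symm⟩
        · rintro ⟨x, hx, rfl⟩
          exact ⟨⟨x, hx⟩, hφ _⟩
      have h6 : Q < P ↔ Q.map α.toMonoidHom < P.map α.toMonoidHom :=
        ⟨fun h => (Subgroup.map_lt_map_iff_of_injective α.injective).2 h,
          fun h => (Subgroup.map_lt_map_iff_of_injective α.injective).1 h⟩
      rw [h6, hQ, h5]
    rintro (h5 | h5)
    · obtain ⟨α, ha, ha'⟩ := h2 (Or.inl h5)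
      have h6 : Q < φ.range := (key P φ.range φ α ha' rfl).1 h5
      have h7 : φ.range ≤ R := by
        rintro _ ⟨x, rfl⟩
        exact h x
      obtain ⟨β, hb, hb'⟩ := h4 (Or.inl (lt_of_lt_of_le h6 h7))
      refine ⟨β * α, isA_mul hb ha, fun x => ?_⟩
      show ψ ⟨φ x, h x⟩ = β (α x)
      rw [hb']
      show β (φ x) = _
      rw [ha']
    · have h6 : (ψ.comp (φ.codRestrict R h)).range ≤ ψ.range := by
        rintro _ ⟨x, rfl⟩
        exact ⟨_, rfl⟩
      obtain ⟨β, hb, hb'⟩ := h4 (Or.inr (lt_of_lt_of_le h5 h6))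
      have h7 : Q < φ.range := by
        refine (key φ.range (ψ.comp (φ.codRestrict R h)).range (β.toMonoidHom.comp φ.range.subtype) β
          (fun _ => rfl) ?_).2 h5
        ext y
        constructor
        · rintro ⟨⟨_, x, rfl⟩, rfl⟩
          exact ⟨x, by show ψ ⟨φ x, h x⟩ = β (φ x); rw [hb']⟩
        · rintro ⟨x, rfl⟩
          exact ⟨⟨φ x, x, rfl⟩, by show β (φ x) = ψ ⟨φ x, h x⟩; rw [hb']⟩
      obtain ⟨α, ha, ha'⟩ := h2 (Or.inr h7)
      refine ⟨β * α, isA_mul hb ha, fun x => ?_⟩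
      show ψ ⟨φ x, h x⟩ = β (α x)
      rw [hb']
      show β (φ x) = _
      rw [ha']
  inv_mem := by
    rintro P φ ⟨h1, h2⟩
    obtain ⟨ψ, hψ, hr, h3, h4⟩ := exists_inv h1 rfl
    refine ⟨ψ, ⟨hψ, ?_⟩, fun x => h3 x _⟩
    intro h
    rw [hr] at h
    obtain ⟨α, ha, ha'⟩ := h2 h.symm
    refine ⟨α⁻¹, isA_inv ha, ?_⟩
    rintro ⟨_, x, rfl⟩
    refine (h3 x ⟨x, rfl⟩).trans ?_
    show (x : G0) = α⁻¹ (φ x)
    rw [ha']
    exact (α.symm_apply_apply (x : G0)).symm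

/-- (TIALP) -/
theorem stTIAlp : Cfsg.Agent.H780.D4.StTIAlp.{u} := by
  intro G0 _ _ p _ F Q1 Q2 hS hF hess hle hcen hinv
  have hfull := le_of_essential hS hF (extSys F Q1 hinv) (by
    intro α hα
    rw [mem_autGroup_iff _ le_rfl] at hα ⊢
    refine ⟨hα, fun _ => ?_⟩
    refine ⟨(MulAut.congr Subgroup.topEquiv) α, ?_, ?_⟩
    · refine mem_of_apply_eq hα (fun x => ?_)
      show ((MulAut.congr Subgroup.topEquiv) α) (x : G0) = ((α x : (⊤ : Subgroup G0)) : G0)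
      rfl
    · intro x
      rfl) (by
    intro Q hQ _ α hα
    have hQS : Q ≤ ⊤ := le_top
    rw [mem_autGroup_iff _ hQS] at hα ⊢
    refine ⟨hα, fun h => ?_⟩
    exfalso
    have hr : (Q.subtype.comp α.toMonoidHom).range = Q := by
      ext y
      constructor
      · rintro ⟨x, rfl⟩
        exact (α x).2
      · intro hy
        exact ⟨α.symm ⟨y, hy⟩, congrArg Subtype.val (α.apply_symm_apply ⟨y, hy⟩)⟩
    rw [hr, or_self] at h
    rcases hess Q hQ with rfl | rfl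
    · exact lt_irrefl _ h
    · exact hle h.le)
  have hnor : ∀ g : G0, g ∈ Subgroup.normalizer (Q1 : Set G0) := by
    intro g
    rw [Subgroup.mem_normalizer_iff]
    intro x
    have h1 := hinv (MulAut.conj g)
    constructor
    · intro hx
      rw [← h1]
      exact ⟨x, hx, rfl⟩
    · intro hx
      rw [← h1] at hx
      obtain ⟨y, hy, hyx⟩ := hx
      have : y = x := (MulAut.conj g).injective hyx
      rwa [← this]
  have hfn : F.IsFullyNormalized Q1 := by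
    refine ⟨le_top, fun R _ => ?_⟩
    refine Subgroup.card_le_of_le ?_
    intro g _
    exact ⟨Subgroup.mem_top g, hnor g⟩
  have hrec := isReceptive_of_isFullyNormalized hS hF hfn
  intro γ hγ x hx hxI hγx
  obtain ⟨g, -, hg⟩ := (mem_autInducedBy_iff _ _ _).1 hx
  obtain ⟨h, -, hh⟩ := (mem_autInducedBy_iff _ _ _).1 hγx
  have hgQ : g ∉ Q1 := by
    intro hgQ
    apply hxI
    refine ⟨⟨g, hgQ⟩, ?_⟩
    ext e
    exact (hg e).symm
  rw [mem_autGroup_iff F le_top] at hγ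
  have hr : (Q1.subtype.comp γ.toMonoidHom).range = Q1 := by
    ext y
    constructor
    · rintro ⟨x, rfl⟩
      exact (γ x).2
    · intro hy
      exact ⟨γ.symm ⟨y, hy⟩, congrArg Subtype.val (γ.apply_symm_apply ⟨y, hy⟩)⟩
  obtain ⟨ψ, hψ, hψe⟩ := hrec.2 Q1 _ hγ hr
  have hgE : g ∈ extender (⊤ : Subgroup G0) Q1 (Q1.subtype.comp γ.toMonoidHom) := by
    refine Subgroup.subset_closure ⟨Subgroup.mem_top g, hnor g, h, Subgroup.mem_top h, ?_⟩
    intro e he
    have h1 := hh (γ e)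
    have h2 : (γ * x * γ⁻¹) (γ e) = γ (x e) := by
      rw [MulAut.mul_apply, MulAut.mul_apply, MulAut.inv_apply_self]
    rw [h2] at h1
    show ((γ ⟨g * e * g⁻¹, he⟩ : Q1) : G0) = h * ((γ e : Q1) : G0) * h⁻¹
    rw [← h1]
    have h3 : (⟨g * e * g⁻¹, he⟩ : Q1) = x e := Subtype.ext (hg e).symm
    rw [h3]
  have hQE : Q1 ≤ extender (⊤ : Subgroup G0) Q1 (Q1.subtype.comp γ.toMonoidHom) := by
    intro c hc
    refine Subgroup.subset_closure ⟨Subgroup.mem_top c, hnor c, ((γ ⟨c, hc⟩ : Q1) : G0), Subgroup.mem_top _, ?_⟩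
    intro e he
    show ((γ ⟨c * e * c⁻¹, he⟩ : Q1) : G0) = _
    have h3 : (⟨c * e * c⁻¹, he⟩ : Q1) = ⟨c, hc⟩ * e * ⟨c, hc⟩⁻¹ := Subtype.ext rfl
    rw [h3, map_mul, map_mul, map_inv]
    rfl
  have hlt : Q1 < extender (⊤ : Subgroup G0) Q1 (Q1.subtype.comp γ.toMonoidHom) :=
    lt_of_le_of_ne hQE (fun heq => hgQ (by rw [heq]; exact hgE))
  obtain ⟨α, -, hα⟩ := (hfull _ hψ).2 (Or.inl hlt)
  have hγα : ∀ e : Q1, ((γ e : Q1) : G0) = α e := by
    intro e
    have h1 := hψe e e.2 (hQE e.2)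
    rw [hα] at h1
    exact h1.symm
  intro y hy
  obtain ⟨k, -, hk⟩ := (mem_autInducedBy_iff _ _ _).1 hy
  refine (mem_autInducedBy_iff _ _ _).2 ⟨α k, Subgroup.mem_top _, fun e => ?_⟩
  obtain ⟨e', rfl⟩ := γ.surjective e
  have h2 : (γ * y * γ⁻¹) (γ e') = γ (y e') := by
    rw [MulAut.mul_apply, MulAut.mul_apply, MulAut.inv_apply_self]
  rw [h2, hγα, hk, hγα, map_mul, map_mul, map_inv]

end Cfsg.Agent.H805.D4
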